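import Cfsg.Agent.SnSmallChar.Basic
import Mathlib.GroupTheory.GroupAction.MultipleTransitivity

/-!
Even permutations with prescribed fixed points, and the transitivity of the alternating group.
-/

set_option autoImplicit false

namespace Cfsg.Agent.SnSmallChar

open Equiv Equiv.Perm

variable {n : ℕ}

theorem tuples_alternating (hn : 7 ≤ n) :
    ∀ m : ℕ, m ≤ 4 → ∀ t t' : Fin m ↪ Fin n, ∃ g : alternatingGroup (Fin n), ∀ i, g • t i = t' i := by
  intro m hm t t'
  have h := alternatingGroup.isMultiplyPretransitive (Fin n)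
  have h' : MulAction.IsMultiplyPretransitive (alternatingGroup (Fin n)) (Fin n) m := by
    refine MulAction.isMultiplyPretransitive_of_le (n := Nat.card (Fin n) - 2) ?_ ?_ <;>
      simp [Nat.card_eq_fintype_card] <;> omega
  obtain ⟨g, hg⟩ := h'.exists_smul_eq t t'
  exact ⟨g, fun i => congrArg (fun s : Fin m ↪ Fin n => s i) hg⟩

theorem tuples_perm (hn : 7 ≤ n) :
    ∀ m : ℕ, m ≤ 4 → ∀ t t' : Fin m ↪ Fin n, ∃ g : Equiv.Perm (Fin n), ∀ i, g • t i = t' i :=
  fun m hm t t' => let ⟨g, hg⟩ := tuples_alternating hn m hm t t'; ⟨g, hg⟩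

/-- An even permutation with a given cycle type. -/
theorem exists_even (m : Multiset ℕ) (hsum : m.sum ≤ n) (h2 : ∀ a ∈ m, 2 ≤ a)
    (hev : Even (m.sum + m.card)) :
    ∃ g : alternatingGroup (Fin n), (g : Perm (Fin n)).cycleType = m ∧ fixN (n := n) g = n - m.sum ∧
      orderOf g = m.lcm ∧ ((∀ a ∈ m, a ≠ 2) → twoN (n := n) g = 0) := by
  classical
  obtain ⟨g, hg⟩ := (Perm.exists_with_cycleType_iff (Fin n)).2 ⟨by simpa using hsum, h2⟩
  have hA : g ∈ alternatingGroup (Fin n) := by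
    rw [mem_alternatingGroup, sign_of_cycleType, hg, hev.neg_one_pow]
  refine ⟨⟨g, hA⟩, hg, ?_, ?_, fun hne => ?_⟩
  · have h := Perm.sum_cycleType g
    rw [hg] at h
    rw [fixN, h, Nat.card_eq_fintype_card, Fintype.card_subtype]
    rw [show n - g.support.card = g.supportᶜ.card by rw [Finset.card_compl, Fintype.card_fin]]
    congr 1
    ext i
    simp [Perm.mem_support]
  · rw [← hg, Perm.lcm_cycleType, ← Subgroup.orderOf_coe]
  · rw [twoN, Nat.card_eq_zero]
    left
    refine ⟨fun ⟨i, h1, h3⟩ => ?_⟩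
    have h1' : g i ≠ i := h1
    have h3' : g (g i) = i := h3
    have hc : (g.cycleOf i).IsCycle := Perm.isCycle_cycleOf g h1'
    have hmem : g.cycleOf i ∈ g.cycleFactorsFinset :=
      Perm.cycleOf_mem_cycleFactorsFinset_iff.2 (Perm.mem_support.2 h1')
    have hcard : (g.cycleOf i).support.card ∈ m := by
      rw [← hg, Perm.cycleType_def]
      exact Multiset.mem_map.2 ⟨_, hmem, rfl⟩
    have hi : (g.cycleOf i) i ≠ i := by rw [Perm.cycleOf_apply_self]; exact h1'
    have hpow : (g.cycleOf i ^ 2) i = i := by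
      rw [Perm.cycleOf_pow_apply_self, pow_two]; exact h3'
    have hdvd := orderOf_dvd_of_pow_eq_one ((Perm.IsCycle.pow_eq_one_iff' hc hi).2 hpow)
    rw [hc.orderOf] at hdvd
    have := Nat.le_of_dvd two_pos hdvd
    have := h2 _ hcard
    exact hne _ hcard (by omega)

theorem lcm_dvd_pow {m : Multiset ℕ} {j : ℕ} (h : ∀ a ∈ m, a ∣ 2 ^ j) : ∃ i : ℕ, m.lcm = 2 ^ i := by
  obtain ⟨i, -, hi⟩ := (Nat.dvd_prime_pow Nat.prime_two).1 (Multiset.lcm_dvd.2 h)
  exact ⟨i, hi⟩

end Cfsg.Agent.SnSmallChar
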