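import Cfsg.Agent.Char.FS
import Cfsg.Agent.Char.Gen
import Cfsg.Agent.Char.Commutant

/-!
The characters of degrees `n - 1`, `n(n-3)/2`, `(n-1)(n-2)/2` of a four times transitive group.
-/

set_option autoImplicit false

namespace Cfsg.Agent.SnSmallChar

open scoped ComplexConjugate

variable {n : ℕ} {G : Type*} [Group G] [Fintype G] [MulAction G (Fin n)]

/-- fixed points -/
noncomputable def fixN (g : G) : ℕ := Nat.card {i : Fin n // g • i = i}

/-- points in transpositions -/
noncomputable def twoN (g : G) : ℕ := Nat.card {i : Fin n // g • i ≠ i ∧ g • g • i = i}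

variable (n) in
noncomputable def std (g : G) : ℂ := (fixN (n := n) g : ℂ) - 1

variable (n) in
noncomputable def sp (g : G) : ℂ :=
  ((fixN (n := n) g : ℂ) ^ 2 - 3 * fixN (n := n) g + twoN (n := n) g) / 2

variable (n) in
noncomputable def lam (g : G) : ℂ :=
  ((fixN (n := n) g : ℂ) ^ 2 - 3 * fixN (n := n) g + 2 - twoN (n := n) g) / 2

omit [Fintype G] in
theorem fixN_sq (g : G) : fixN (n := n) (g * g) = fixN (n := n) g + twoN (n := n) g := by
  classical
  simp only [fixN, twoN, Nat.card_eq_fintype_card, Fintype.card_subtype]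
  rw [← Finset.card_union_of_disjoint]
  · congr 1
    ext i
    simp only [Finset.mem_filter, Finset.mem_univ, true_and, Finset.mem_union, mul_smul]
    constructor
    · intro h
      by_cases h1 : g • i = i
      · exact Or.inl h1
      · exact Or.inr ⟨h1, h⟩
    · rintro (h | h)
      · rw [h, h]
      · exact h.2
  · rw [Finset.disjoint_filter]
    intro i _ h1 h2
    exact h2.1 h1

/-- Embedded tuples moved by `g` as prescribed by `π`. -/
noncomputable def mom {m : ℕ} (π : Equiv.Perm (Fin m)) (g : G) : ℕ :=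
  Nat.card {t : Fin m ↪ Fin n // ∀ i, g • t i = t (π i)}

theorem sum_mom (hn : 4 ≤ n) (htr : ∀ m : ℕ, m ≤ 4 → ∀ t t' : Fin m ↪ Fin n, ∃ g : G, ∀ i, g • t i = t' i)
    {m : ℕ} (hm : m ≤ 4) (π : Equiv.Perm (Fin m)) :
    ∑ g : G, (mom (n := n) π g : ℂ) = Nat.card G := by
  classical
  have h : ∑ g : G, mom (n := n) π g = Nat.card G := by
    simp only [mom, Nat.card_eq_fintype_card, Fintype.card_subtype]
    simp only [Finset.card_filter]
    rw [Finset.sum_comm]
    have hconst : ∀ t : Fin m ↪ Fin n,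
        (∑ g : G, if ∀ i, g • t i = t (π i) then 1 else 0) * Fintype.card (Fin m ↪ Fin n) = Fintype.card G := by
      intro t
      rw [← Finset.card_filter]
      have hpre : MulAction.IsPretransitive G (Fin m ↪ Fin n) :=
        ⟨fun a b => (htr m hm a b).imp fun g hg => Function.Embedding.ext hg⟩
      obtain ⟨g₀, hg₀⟩ := htr m hm t (π.toEmbedding.trans t)
      have e : (Finset.univ.filter fun g : G => ∀ i, g • t i = t (π i)).card =
          Nat.card (MulAction.stabilizer G t) := by
        rw [← Fintype.card_subtype, ← Nat.card_eq_fintype_card]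
        refine Nat.card_congr ⟨fun g => ⟨g₀⁻¹ * g.1, Function.Embedding.ext fun i => ?_⟩,
          fun g => ⟨g₀ * g.1, fun i => ?_⟩, fun g => Subtype.ext (by simp), fun g => Subtype.ext (by simp)⟩
        · show (g₀⁻¹ * g.1) • t i = t i
          rw [mul_smul, g.2 i, inv_smul_eq_iff, hg₀ i]; rfl
        · have h1 : g.1 • t i = t i := congrArg (fun s : Fin m ↪ Fin n => s i) g.2
          rw [mul_smul, h1, hg₀ i]; rfl
      rw [e, ← Nat.card_eq_fintype_card, ← MulAction.index_stabilizer_of_transitive G t, mul_comm,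
        Subgroup.index_mul_card, Nat.card_eq_fintype_card]
    have hpos : 0 < Fintype.card (Fin m ↪ Fin n) :=
      Fintype.card_pos_iff.2 ⟨(Fin.castLEEmb (hm.trans hn))⟩
    refine Nat.eq_of_mul_eq_mul_right hpos ?_
    rw [Finset.sum_mul, Finset.sum_congr rfl fun t _ => hconst t, Finset.sum_const, smul_eq_mul,
      Finset.card_univ, mul_comm]
  exact_mod_cast h

omit [Fintype G] in
theorem mom_one (m : ℕ) (g : G) :
    mom (n := n) (1 : Equiv.Perm (Fin m)) g = (fixN (n := n) g).descFactorial m := by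
  classical
  rw [fixN, mom, Nat.card_eq_fintype_card (α := {i : Fin n // g • i = i})]
  rw [show (Fintype.card {i : Fin n // g • i = i}).descFactorial m =
    Fintype.card (Fin m ↪ {i : Fin n // g • i = i}) by rw [Fintype.card_embedding_eq, Fintype.card_fin],
    ← Nat.card_eq_fintype_card]
  exact Nat.card_congr
    ⟨fun t => ⟨fun i => ⟨t.1 i, t.2 i⟩, fun i j h => t.1.injective (congrArg Subtype.val h)⟩,
      fun s => ⟨s.trans (Function.Embedding.subtype _), fun i => (s i).2⟩,
      fun t => rfl, fun s => rfl⟩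

omit [Fintype G] in
theorem mom_swap (k : ℕ) (g : G) :
    mom (n := n) (Equiv.swap (0 : Fin (k + 2)) 1) g =
      twoN (n := n) g * (fixN (n := n) g).descFactorial k := by
  classical
  rw [← mom_one k g, twoN, mom, mom, ← Nat.card_prod]
  have hs : ∀ i : Fin k, Equiv.swap (0 : Fin (k + 2)) 1 i.succ.succ = i.succ.succ := fun i =>
    Equiv.swap_apply_of_ne_of_ne (Fin.succ_ne_zero _) (by
      rw [← Fin.succ_zero_eq_one, ne_eq, Fin.succ_inj]; exact Fin.succ_ne_zero _)
  refine Nat.card_congr
    ⟨fun t => (⟨t.1 0, ?_, ?_⟩, ⟨(Fin.succEmb k).trans ((Fin.succEmb (k + 1)).trans t.1), fun i => ?_⟩),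
      fun x => ⟨⟨Fin.cons x.1.1 (Fin.cons (g • x.1.1) x.2.1), ?_⟩, ?_⟩, fun t => ?_, fun x => ?_⟩
  · rw [t.2 0, Equiv.swap_apply_left]
    exact fun h => one_ne_zero (t.1.injective h)
  · rw [t.2 0, Equiv.swap_apply_left, t.2 1, Equiv.swap_apply_right]
  · show g • t.1 i.succ.succ = t.1 i.succ.succ
    rw [t.2, hs]
  · rw [Fin.cons_injective_iff, Fin.cons_injective_iff]
    have h2 : ∀ i, g • x.2.1 i = x.2.1 i := x.2.2
    refine ⟨?_, ?_, x.2.1.injective⟩
    · rintro ⟨i, hi⟩
      refine Fin.cases (fun h => ?_) (fun j h => ?_) i hi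
      · rw [Fin.cons_zero] at h; exact x.1.2.1 h
      · rw [Fin.cons_succ] at h; exact x.1.2.1 (h ▸ h2 j)
    · rintro ⟨i, hi⟩
      have : x.1.1 = x.2.1 i := by
        apply MulAction.injective g
        show g • x.1.1 = g • x.2.1 i
        rw [h2 i, hi]
      exact x.1.2.1 (this ▸ h2 i)
  · intro i
    refine Fin.cases ?_ (fun i => Fin.cases ?_ (fun j => ?_) i) i
    · rw [Equiv.swap_apply_left]
      simp
    · rw [Fin.succ_zero_eq_one, Equiv.swap_apply_right]
      simpa using x.1.2.2
    · rw [hs]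
      simpa using x.2.2 j
  · refine Subtype.ext (Function.Embedding.ext fun i => ?_)
    refine Fin.cases ?_ (fun i => Fin.cases ?_ (fun j => ?_) i) i
    · rfl
    · show g • t.1 0 = t.1 (Fin.succ 0)
      rw [t.2 0, Equiv.swap_apply_left, Fin.succ_zero_eq_one]
    · rfl
  · rfl

omit [Fintype G] in
theorem mom_double (g : G) :
    mom (n := n) (Equiv.swap (0 : Fin 4) 1 * Equiv.swap 2 3) g =
      twoN (n := n) g * (twoN (n := n) g - 2) := by
  classical
  set T : Finset (Fin n) := Finset.univ.filter fun i => g • i ≠ i ∧ g • g • i = i with hT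
  have htwo : twoN (n := n) g = T.card := by
    rw [twoN, Nat.card_eq_fintype_card, Fintype.card_subtype]
  rw [htwo]
  have hmem : ∀ a, a ∈ T ↔ g • a ≠ a ∧ g • g • a = a := fun a => by simp [hT]
  have hga : ∀ a ∈ T, g • a ∈ T := fun a ha => by
    obtain ⟨h1, h2⟩ := (hmem a).1 ha
    exact (hmem _).2 ⟨by rw [h2]; exact Ne.symm h1, by rw [h2]⟩
  have hcard : (T.sigma fun a => T \ {a, g • a}).card = T.card * (T.card - 2) := by
    rw [Finset.card_sigma, Finset.sum_const_nat]
    intro a ha
    rw [Finset.card_sdiff_of_subset (by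
      intro x hx; simp only [Finset.mem_insert, Finset.mem_singleton] at hx
      rcases hx with rfl | rfl
      · exact ha
      · exact hga a ha), Finset.card_pair (Ne.symm ((hmem a).1 ha).1)]
  rw [← hcard, mom, ← Nat.card_eq_finsetCard]
  refine Nat.card_congr ⟨fun t => ⟨⟨t.1 0, t.1 2⟩, ?_⟩,
    fun x => ⟨⟨![x.1.1, g • x.1.1, x.1.2, g • x.1.2], ?_⟩, ?_⟩, fun t => ?_, fun x => ?_⟩
  · have h0 : g • t.1 0 = t.1 1 := by rw [t.2 0]; congr 1
    have h1 : g • t.1 1 = t.1 0 := by rw [t.2 1]; congr 1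
    have h2 : g • t.1 2 = t.1 3 := by rw [t.2 2]; congr 1
    have h3 : g • t.1 3 = t.1 2 := by rw [t.2 3]; congr 1
    simp only [Finset.mem_sigma, Finset.mem_sdiff, hmem, Finset.mem_insert, Finset.mem_singleton, not_or]
    refine ⟨⟨?_, by rw [h0, h1]⟩, ⟨?_, by rw [h2, h3]⟩, ?_, ?_⟩
    · rw [h0]; exact fun h => absurd (t.1.injective h) (by decide)
    · rw [h2]; exact fun h => absurd (t.1.injective h) (by decide)
    · exact fun h => absurd (t.1.injective h) (by decide)
    · rw [h0]; exact fun h => absurd (t.1.injective h) (by decide)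
  · obtain ⟨⟨a, b⟩, hx⟩ := x
    simp only [Finset.mem_sigma, Finset.mem_sdiff, hmem, Finset.mem_insert, Finset.mem_singleton, not_or] at hx
    obtain ⟨⟨ha1, ha2⟩, ⟨hb1, hb2⟩, hba, hbga⟩ := hx
    intro i j h
    have e1 : g • b ≠ a := fun e => hbga (by rw [← hb2, e])
    have e2 : g • b ≠ g • a := fun e => hba (MulAction.injective g e)
    fin_cases i <;> fin_cases j <;> first
      | rfl
      | (simp at h; first
          | exact absurd h ha1 | exact absurd h.symm ha1 | exact absurd h hb1 | exact absurd h.symm hb1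
          | exact absurd h hba | exact absurd h.symm hba | exact absurd h hbga | exact absurd h.symm hbga
          | exact absurd h e1 | exact absurd h.symm e1 | exact absurd h e2 | exact absurd h.symm e2)
  · obtain ⟨⟨a, b⟩, hx⟩ := x
    simp only [Finset.mem_sigma, Finset.mem_sdiff, hmem] at hx
    intro i
    fin_cases i
    · rfl
    · exact hx.1.2
    · rfl
    · exact hx.2.1.2
  · refine Subtype.ext (Function.Embedding.ext fun i => ?_)
    fin_cases i
    · rfl
    · show g • t.1 0 = _
      rw [t.2 0]; congr 1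
    · rfl
    · show g • t.1 2 = _
      rw [t.2 2]; congr 1
  · rfl

omit [Fintype G] in
theorem twoN_ne_one (g : G) : twoN (n := n) g ≠ 1 := by
  classical
  intro h
  rw [twoN, Nat.card_eq_one_iff_unique] at h
  obtain ⟨hs, ⟨a, ha1, ha2⟩⟩ := h
  have := Subtype.ext_iff.1 (@Subsingleton.elim _ hs ⟨a, ha1, ha2⟩ ⟨g • a, by rw [ha2]; exact Ne.symm ha1, by rw [ha2]⟩)
  exact ha1 this.symm

/-- The three characters are irreducible. -/
theorem isIrr (hn : 7 ≤ n)
    (htr : ∀ m : ℕ, m ≤ 4 → ∀ t t' : Fin m ↪ Fin n, ∃ g : G, ∀ i, g • t i = t' i) :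
    IsIrrCharacter G (std n) ∧ IsIrrCharacter G (sp n) ∧ IsIrrCharacter G (lam n) := by
  classical
  have hG : (Nat.card G : ℂ) ≠ 0 := Nat.cast_ne_zero.2 Nat.card_pos.ne'
  set F : G → ℂ := fun g => (fixN (n := n) g : ℂ) with hF
  have hP : IsCharacter G F := ⟨_, _, (Char.isCharacter_of_rep (Cfsg.permRep ℂ G (Fin n))).choose_spec.choose_spec.trans
    (Char.permRep_character.trans (funext fun g => rfl))⟩
  obtain ⟨s, a, hs, ha, hmul, hsq⟩ := Char.exists_sym_alt hP
  have hmul' : ∀ g, F g * F g = s g + a g := fun g => congrFun hmul g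
  have hsq' : ∀ g, F g + (twoN (n := n) g : ℂ) = s g - a g := fun g => by
    rw [← hsq g]; show _ = ((fixN (n := n) (g * g) : ℕ) : ℂ); rw [fixN_sq]; push_cast; rfl
  have h1 : IsGeneralizedCharacter G (std (G := G) n) :=
    ⟨F, fun _ => 1, hP, Char.isCharacter_one, funext fun g => rfl⟩
  have h2 : IsGeneralizedCharacter G (sp (G := G) n) :=
    ⟨s, F + F, hs, Char.isCharacter_add hP hP, funext fun g => by
      have := hmul' g; have := hsq' g
      simp only [sp, Pi.sub_apply, Pi.add_apply, hF] at *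
      linear_combination (1 / 2 : ℂ) * this + (1 / 2 : ℂ) * hmul' g⟩
  have h3 : IsGeneralizedCharacter G (lam (G := G) n) :=
    ⟨a + fun _ => 1, F, Char.isCharacter_add ha Char.isCharacter_one, hP, funext fun g => by
      have := hsq' g
      simp only [lam, Pi.sub_apply, Pi.add_apply, hF] at *
      linear_combination -(1 / 2 : ℂ) * this + (1 / 2 : ℂ) * hmul' g⟩
  -- moments
  have e0 : ∑ g : G, (1 : ℂ) = Nat.card G := by simp
  have e1 : ∀ m ≤ 4, ∑ g : G, ((fixN (n := n) g).descFactorial m : ℂ) = Nat.card G := fun m hm => by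
    rw [← sum_mom (n := n) (by omega) htr hm 1]; simp only [mom_one]
  have e2 : ∀ k ≤ 2, ∑ g : G, ((twoN (n := n) g : ℂ) * (fixN (n := n) g).descFactorial k) = Nat.card G :=
    fun k hk => by
      rw [← sum_mom (n := n) (by omega) htr (show k + 2 ≤ 4 by omega) (Equiv.swap 0 1)]
      simp only [mom_swap, Nat.cast_mul]
  have e3 : ∑ g : G, ((twoN (n := n) g : ℂ) * ((twoN (n := n) g : ℂ) - 2)) = Nat.card G := by
    rw [← sum_mom (n := n) (by omega) htr le_rfl (Equiv.swap 0 1 * Equiv.swap 2 3)]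
    refine Finset.sum_congr rfl fun g _ => ?_
    rw [mom_double]
    have := twoN_ne_one (n := n) g
    rcases Nat.eq_zero_or_pos (twoN (n := n) g) with h | h
    · simp [h]
    · rw [Nat.cast_mul, Nat.cast_sub (by omega)]; norm_num
  have hD : ∀ g : G, ((fixN (n := n) g).descFactorial 2 : ℂ) = F g * (F g - 1) ∧
      ((fixN (n := n) g).descFactorial 3 : ℂ) = F g * (F g - 1) * (F g - 2) ∧
      ((fixN (n := n) g).descFactorial 4 : ℂ) = F g * (F g - 1) * (F g - 2) * (F g - 3) := fun g => by
    simp only [hF]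
    generalize fixN (n := n) g = c
    rcases c with _ | _ | _ | _ | c
    all_goals simp [Nat.descFactorial_succ]
    all_goals first | ring_nf | skip
    all_goals trivial
  have hinner : ∀ θ : G → ℂ, (∀ g, conj (θ g) = θ g) → (∑ g, θ g ^ 2 = Nat.card G) →
      classInner θ θ = 1 := fun θ hr hsum => by
    rw [classInner]
    simp only [hr, ← sq]
    rw [hsum, inv_mul_cancel₀ hG]
  have hdeg0 : twoN (n := n) (1 : G) = 0 := by
    rw [twoN, Nat.card_eq_zero]; left; exact ⟨fun i => i.2.1 (one_smul _ _)⟩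
  have hdeg1 : fixN (n := n) (1 : G) = n := by
    rw [fixN, Nat.card_congr (Equiv.subtypeUnivEquiv fun i => one_smul G i), Nat.card_eq_fintype_card, Fintype.card_fin]
  have hn' : (7 : ℝ) ≤ n := by exact_mod_cast hn
  refine ⟨Char.IsGen.isIrr_of_norm_one h1 (hinner _ (fun g => by simp [std, Complex.conj_natCast]) ?_) ?_,
    Char.IsGen.isIrr_of_norm_one h2 (hinner _ (fun g => by simp [sp, Complex.conj_natCast, map_ofNat]) ?_) ?_,
    Char.IsGen.isIrr_of_norm_one h3 (hinner _ (fun g => by simp [lam, Complex.conj_natCast, map_ofNat]) ?_) ?_⟩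
  · have e : ∀ g : G, std (G := G) n g ^ 2 =
        ((fixN (n := n) g).descFactorial 2 : ℂ) - ((fixN (n := n) g).descFactorial 1 : ℂ) + 1 := fun g => by
      rw [(hD g).1, Nat.descFactorial_one]; simp only [std, hF]; ring
    simp only [e, Finset.sum_add_distrib, Finset.sum_sub_distrib, e1 2 (by norm_num), e1 1 (by norm_num), e0]
    ring
  · simp [std, hdeg1]; linarith
  · have e : ∀ g : G, sp (G := G) n g ^ 2 = (1 / 4 : ℂ) *
        (((fixN (n := n) g).descFactorial 4 : ℂ) - 2 * ((fixN (n := n) g).descFactorial 2 : ℂ)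
          + 4 * ((fixN (n := n) g).descFactorial 1 : ℂ)
          + 2 * ((twoN (n := n) g : ℂ) * (fixN (n := n) g).descFactorial 2)
          - 4 * ((twoN (n := n) g : ℂ) * (fixN (n := n) g).descFactorial 1)
          + ((twoN (n := n) g : ℂ) * ((twoN (n := n) g : ℂ) - 2))
          + 2 * ((twoN (n := n) g : ℂ) * (fixN (n := n) g).descFactorial 0)) := fun g => by
      rw [(hD g).1, (hD g).2.2, Nat.descFactorial_one, Nat.descFactorial_zero, Nat.cast_one]
      simp only [sp, hF]; ring
    simp only [e, ← Finset.mul_sum, Finset.sum_add_distrib, Finset.sum_sub_distrib,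
      e1 4 le_rfl, e1 2 (by norm_num), e1 1 (by norm_num), e2 2 le_rfl, e2 1 (by norm_num),
      e2 0 (by norm_num), e3]
    ring
  · rw [show sp (G := G) n 1 = ((((n : ℝ) ^ 2 - 3 * n) / 2 : ℝ) : ℂ) by simp [sp, hdeg0, hdeg1],
      Complex.ofReal_re]
    nlinarith
  · have e : ∀ g : G, lam (G := G) n g ^ 2 = (1 / 4 : ℂ) *
        (((fixN (n := n) g).descFactorial 4 : ℂ) + 2 * ((fixN (n := n) g).descFactorial 2 : ℂ)
          - 4 * ((fixN (n := n) g).descFactorial 1 : ℂ) + 4
          - 2 * ((twoN (n := n) g : ℂ) * (fixN (n := n) g).descFactorial 2)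
          + 4 * ((twoN (n := n) g : ℂ) * (fixN (n := n) g).descFactorial 1)
          - 4 * ((twoN (n := n) g : ℂ) * (fixN (n := n) g).descFactorial 0)
          + ((twoN (n := n) g : ℂ) * ((twoN (n := n) g : ℂ) - 2))
          + 2 * ((twoN (n := n) g : ℂ) * (fixN (n := n) g).descFactorial 0)) := fun g => by
      rw [(hD g).1, (hD g).2.2, Nat.descFactorial_one, Nat.descFactorial_zero, Nat.cast_one]
      simp only [lam, hF]; ring
    simp only [e, ← Finset.mul_sum, Finset.sum_add_distrib, Finset.sum_sub_distrib,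
      e1 4 le_rfl, e1 2 (by norm_num), e1 1 (by norm_num), e2 2 le_rfl, e2 1 (by norm_num),
      e2 0 (by norm_num), e3]
    simp only [Finset.sum_const, Finset.card_univ, nsmul_eq_mul, Nat.card_eq_fintype_card]
    ring
  · rw [show lam (G := G) n 1 = ((((n : ℝ) ^ 2 - 3 * n + 2) / 2 : ℝ) : ℂ) by simp [lam, hdeg0, hdeg1],
      Complex.ofReal_re]
    nlinarith

end Cfsg.Agent.SnSmallChar
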